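import Groth.Agent.PerfGen7.RelTor.Stalk
import Groth.Agent.KFlatLib.Scheme.TorQCoh

/-!
# Bounds for tor amplitudes and derived direct images
-/

set_option linter.style.haveILetI false
set_option backward.isDefEq.respectTransparency false

universe u

open CategoryTheory CategoryTheory.Limits AlgebraicGeometry MonoidalCategory Pretriangulated

attribute [local instance] HasDerivedCategory.standard

namespace Groth.Agent.PerfGen7.RelTor

open Groth.Agent.KFlatLib Groth.Agent.H9Misc

section Ring

variable {A : Type u} [CommRing A]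

/-- Cohomology of an object of tor amplitude `[a, b]` lives in `[a, b]`. -/
lemma exactAt_of_torAmp {a b : ℤ} {L : DRing.Cx A}
    (h : DRing.HasTorAmplitudeIn A a b (DerivedCategory.Q.obj L)) (i : ℤ) (hi : i < a ∨ b < i) :
    L.ExactAt i := by
  obtain ⟨E, hz, -, ⟨e⟩⟩ := h
  rw [HomologicalComplex.exactAt_iff_isZero_homology]
  exact (ShortComplex.isZero_homology_of_isZero_X₂ (E.sc i) (hz i hi)).of_iso
    (((DerivedCategory.homologyFunctorFactors _ i).app L).symm ≪≫
      (DerivedCategory.homologyFunctor _ i).mapIso e.symm ≪≫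
      (DerivedCategory.homologyFunctorFactors _ i).app E)

/-- Tensor products are right exact. -/
theorem torAmp_of_le {a b b' : ℤ} {L : DRing.Cx A}
    (h : DRing.HasTorAmplitudeIn A a b' (DerivedCategory.Q.obj L)) (hb : ∀ i, b < i → L.ExactAt i) :
    DRing.HasTorAmplitudeIn A a b (DerivedCategory.Q.obj L) := by
  obtain ⟨R, ψ, hψ, hflat, hRb⟩ := (ringCover A).exists_bounded_resolution L b fun m hm =>
    (HomologicalComplex.exactAt_iff_isZero_homology _ _).1 (hb m hm)
  haveI := hψ
  haveI : IsIso (DerivedCategory.Q.map ψ) :=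
    (DerivedCategory.isIso_Q_map_iff_quasiIso _ _).2 inferInstance
  have hR : DRingLTensor.IsKF R := DRingTor.isKF_of_flat hflat hRb
  refine DRingTor.hasTorAmplitudeIn_of_van hR (fun M i hi => ?_) (asIso (DerivedCategory.Q.map ψ))
  rcases hi with hi | hi
  · exact (DRingTor.iff_van hR (asIso (DerivedCategory.Q.map ψ))).1 h M i (Or.inl hi)
  · exact ShortComplex.exact_of_isZero_X₂ _ ((tensorRight M).map_isZero (hRb i hi))

/-- A bijective change of rings, in the other direction. -/
theorem torAmp_res_of_bijective {C : Type u} [CommRing C] (φ : C →+* A) (hφ : Function.Bijective φ)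
    {a b : ℤ} {L : DRing.Cx A} (h : DRing.HasTorAmplitudeIn A a b (DerivedCategory.Q.obj L)) :
    DRing.HasTorAmplitudeIn C a b (DerivedCategory.Q.obj ((resCx φ).obj L)) := by
  obtain ⟨E, hz, hf, ⟨e⟩⟩ := h
  refine ⟨(resCx φ).obj E, fun i hi => (ModuleCat.restrictScalars φ).map_isZero (hz i hi),
    fun i => ?_, ⟨resQMapIso φ e⟩⟩
  letI := φ.toAlgebra
  letI : Module C (E.X i : Type u) := Module.compHom _ φ
  haveI : IsScalarTower C A (E.X i : Type u) := IsScalarTower.of_algebraMap_smul fun _ _ => rfl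
  haveI : Module.Flat C A :=
    Module.Flat.of_linearEquiv (LinearEquiv.ofBijective (Algebra.linearMap C A) hφ).symm
  haveI : Module.Flat A (E.X i : Type u) := hf i
  exact Module.Flat.trans C A (E.X i : Type u)

end Ring

variable {X Y S : Scheme.{u}}

/-- Tor amplitude relative to any map bounds the cohomology. -/
lemma isZero_hd_of_torAmplitude (p : X ⟶ S) {F : CochainComplex X.Modules ℤ} {a b : ℤ}
    (h : DerSch.HasTorAmplitude p a b F) (i : ℤ) (hi : i < a ∨ b < i) :
    IsZero (DCoh.HD (DCoh.toD X F) i) := by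
  refine IsZero.of_iso ?_ ((DerivedCategory.homologyFunctorFactors X.Modules i).app F)
  change IsZero (F.homology i)
  rw [← HomologicalComplex.exactAt_iff_isZero_homology]
  refine (exact_iff_stalk (F.sc i)).2 fun x => ?_
  refine (ShortComplex.exact_map_iff_of_faithful _ (ModuleCat.restrictScalars (p.stalkMap x).hom)).1 ?_
  exact (exactAt_of_torAmp (h x) i hi).of_iso (stalkCxOverIso p x F)

/-- Restriction to an open of the source, at a point. -/
lemma torAmplitudeAt_restrict {U : Scheme.{u}} (p : X ⟶ S) (j : U ⟶ X) [IsOpenImmersion j] (z : U)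
    {a b : ℤ} {F : CochainComplex X.Modules ℤ} (hF : DerSch.HasTorAmplitudeAt p a b F (j.base z)) :
    DerSch.HasTorAmplitudeAt (j ≫ p) a b ((rCx j).obj F) z :=
  torAmp_of_iso (DerivedCategory.Q.mapIso
    (((NatIso.mapHomologicalComplex (stalkOverRestrictIso p j z) (ComplexShape.up ℤ)).app F).symm ≪≫
      ((Functor.mapHomologicalComplexCompIso (Iso.refl (Scheme.Modules.restrictFunctor j ⋙
        DerSch.stalkOver (j ≫ p) z)) (ComplexShape.up ℤ)).app F).symm)) hF

/-- Amplitudes may be computed on an open of the source. -/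
lemma torAmplitudeAt_unrestrict {U : Scheme.{u}} (p : X ⟶ S) (j : U ⟶ X) [IsOpenImmersion j] (z : U)
    {a b : ℤ} {F : CochainComplex X.Modules ℤ}
    (hF : DerSch.HasTorAmplitudeAt (j ≫ p) a b ((rCx j).obj F) z) :
    DerSch.HasTorAmplitudeAt p a b F (j.base z) :=
  torAmp_of_iso (DerivedCategory.Q.mapIso
    (((Functor.mapHomologicalComplexCompIso (Iso.refl (Scheme.Modules.restrictFunctor j ⋙
        DerSch.stalkOver (j ≫ p) z)) (ComplexShape.up ℤ)).app F) ≪≫
      (NatIso.mapHomologicalComplex (stalkOverRestrictIso p j z) (ComplexShape.up ℤ)).app F)) hF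

/-- An open immersion at the target. -/
lemma torAmplitudeAt_comp_openImmersion (f : X ⟶ Y) (g : Y ⟶ S) [IsOpenImmersion g] {x : X}
    {a b : ℤ} {F : CochainComplex X.Modules ℤ} (h : DerSch.HasTorAmplitudeAt f a b F x) :
    DerSch.HasTorAmplitudeAt (f ≫ g) a b F x :=
  torAmp_of_iso (DerivedCategory.Q.mapIso (stalkCxOverCompIso f g x F)).symm
    (torAmp_res_of_bijective (g.stalkMap (f.base x)).hom
      (ConcreteCategory.bijective_of_isIso (g.stalkMap (f.base x))) h)

lemma isQCoh_HD_of_iso_inD {K : DCoh.D X} {M : X.Modules} (a : ℤ)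
    (e : K ≅ (DerivedCategory.singleFunctor X.Modules a).obj M) : Nonempty (DCoh.HD K a ≅ M) :=
  ⟨(DerivedCategory.homologyFunctor X.Modules a).mapIso e ≪≫
    (DerivedCategory.singleFunctorCompHomologyFunctorIso X.Modules a).app M⟩

/-- Vanishing of `Rⁱf_*` above `N` bounds the direct images of bounded objects. -/
theorem isZero_hd_rpush_of_bound (f : X ⟶ Y) [DCoh.HasRpush f] (N : ℕ)
    (hN : ∀ M : X.Modules, Coh.IsQCoh M → ∀ i : ℤ, (N : ℤ) < i →
      IsZero (DCoh.HD ((DCoh.Rpush f).obj (DCoh.inD X M)) i)) :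
    ∀ (m : ℕ) (a : ℤ) (K : DCoh.D X), K.IsGE a → K.IsLE (a + m) → DCoh.IsQCohD K →
      ∀ i : ℤ, a + m + N < i → IsZero (DCoh.HD ((DCoh.Rpush f).obj K) i) := by
  intro m
  induction m with
  | zero =>
    intro a K hge hle hK i hi
    haveI := hge
    haveI : K.IsLE a := by simpa using hle
    obtain ⟨M, ⟨e⟩⟩ := DerivedCategory.exists_iso_singleFunctor_obj_of_isGE_of_isLE K a
    let es : K ≅ (DCoh.inD X M)⟦(-a : ℤ)⟧ :=
      e ≪≫ (((DerivedCategory.singleFunctors X.Modules).shiftIso (-a) a 0 (by omega)).app M).symm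
    obtain ⟨eS⟩ := nonempty_rpush_shift f (DCoh.inD X M) (-a)
    obtain ⟨eM⟩ := isQCoh_HD_of_iso_inD a e
    exact (hN M (isQCoh_of_iso eM (hK a)) (-a + i) (by omega)).of_iso
      ((DerivedCategory.homologyFunctor Y.Modules i).mapIso ((DCoh.Rpush f).mapIso es ≪≫ eS) ≪≫
        (((DerivedCategory.homologyFunctor Y.Modules 0).shiftIso (-a) i (-a + i) rfl).app _))
  | succ m ih =>
    intro a K hge hle hK i hi
    haveI := hge
    haveI := hle
    obtain ⟨T, hT, rfl, h₁le, h₃ge, e₁, e₃⟩ := exists_split K a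
    have k₁ : DCoh.IsQCohD T.obj₁ := fun j => by
      by_cases hj : j ≤ a
      · exact isQCoh_of_iso (e₁ j hj).some.symm (hK j)
      · exact isQCoh_of_isZero (DerivedCategory.isZero_of_isLE T.obj₁ a j (by omega))
    have k₃ : DCoh.IsQCohD T.obj₃ := fun j => by
      by_cases hj : a < j
      · exact isQCoh_of_iso (e₃ j hj).some.symm (hK j)
      · exact isQCoh_of_isZero (DerivedCategory.isZero_of_isGE T.obj₃ (a + 1) j (by omega))
    haveI h₁ge : T.obj₁.IsGE a := by
      rw [DerivedCategory.isGE_iff]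
      exact fun j hj => (DerivedCategory.isZero_of_isGE T.obj₂ a j hj).of_iso (e₁ j (by omega)).some
    haveI h₃le : T.obj₃.IsLE (a + 1 + m) := by
      rw [DerivedCategory.isLE_iff]
      exact fun j hj => (DerivedCategory.isZero_of_isLE T.obj₂ (a + (m + 1 : ℕ)) j
        (by push_cast; omega)).of_iso (e₃ j (by omega)).some
    obtain ⟨c, hc⟩ := exists_rpush_triangle f T hT
    exact (DerivedCategory.HomologySequence.exact₂ _ hc i).isZero_of_both_zeros
      ((ih a T.obj₁ h₁ge (DerivedCategory.TStructure.t.isLE_of_le _ a _ (by omega)) k₁ i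
        (by push_cast at hi; omega)).eq_of_src _ _)
      ((ih (a + 1) T.obj₃ h₃ge h₃le k₃ i (by push_cast at hi; omega)).eq_of_tgt _ _)

end Groth.Agent.PerfGen7.RelTor
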