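import Groth.Agent.PerfGen7.RelTor.Ring
import Groth.Agent.PerfGen7.RpushRelTor

/-!
# Stalkwise calculus of relative tor amplitude
-/

set_option linter.style.haveILetI false
set_option backward.isDefEq.respectTransparency false

universe u

open CategoryTheory CategoryTheory.Limits AlgebraicGeometry MonoidalCategory

attribute [local instance] HasDerivedCategory.standard

namespace Groth.Agent.PerfGen7.RelTor

open Groth.Agent.KFlatLib Groth.Agent.H9Misc

variable {X Y Z : Scheme.{u}} (f : X ⟶ Y) (g : Y ⟶ Z)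

lemma torAmplitudeAt_congr {F G : CochainComplex X.Modules ℤ} (e : DCoh.toD X F ≅ DCoh.toD X G)
    {a b : ℤ} {x : X} (h : DerSch.HasTorAmplitudeAt f a b F x) :
    DerSch.HasTorAmplitudeAt f a b G x :=
  torAmp_of_iso (((DerSch.stalkOver f x).mapDerivedCategoryFactors.app F).symm ≪≫
    (DerSch.stalkOver f x).mapDerivedCategory.mapIso e ≪≫
    (DerSch.stalkOver f x).mapDerivedCategoryFactors.app G) h

lemma torAmplitudeAt_mono {F : CochainComplex X.Modules ℤ} {a b a' b' : ℤ} {x : X} (ha : a' ≤ a)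
    (hb : b ≤ b') (h : DerSch.HasTorAmplitudeAt f a b F x) :
    DerSch.HasTorAmplitudeAt f a' b' F x :=
  torAmp_mono ha hb h

lemma torAmplitudeD_of_rep {K : DCoh.D X} {F : CochainComplex X.Modules ℤ} (e : DCoh.toD X F ≅ K)
    {a b : ℤ} (h : DerSch.HasTorAmplitude f a b F) : DerSch.HasTorAmplitudeD f a b K :=
  fun _ ⟨e'⟩ x => torAmplitudeAt_congr f (e ≪≫ e'.symm) (h x)

/-- Stalks over a composite base. -/
noncomputable def stalkOverCompIso (x : X) :
    DerSch.stalkOver (f ≫ g) x ≅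
      DerSch.stalkOver f x ⋙ ModuleCat.restrictScalars (g.stalkMap (f.base x)).hom :=
  Functor.isoWhiskerLeft _ (ModuleCat.restrictScalarsComp' (g.stalkMap (f.base x)).hom (f.stalkMap x).hom
      ((f ≫ g).stalkMap x).hom (by rw [Scheme.Hom.stalkMap_comp]; rfl)) ≪≫
    (Functor.associator _ _ _).symm

/-- The stalk complexes over a composite base. -/
noncomputable def stalkCxOverCompIso (x : X) (F : CochainComplex X.Modules ℤ) :
    (DerSch.stalkCxOver (f ≫ g) x).obj F ≅
      (resCx (g.stalkMap (f.base x)).hom).obj ((DerSch.stalkCxOver f x).obj F) :=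
  (NatIso.mapHomologicalComplex (stalkOverCompIso f g x) (ComplexShape.up ℤ)).app F ≪≫
    ((Functor.mapHomologicalComplexCompIso (Iso.refl (DerSch.stalkOver f x ⋙
      ModuleCat.restrictScalars (g.stalkMap (f.base x)).hom)) (ComplexShape.up ℤ)).app F).symm

/-- Stalks over the base of `F ⊗ f^* P`. -/
noncomputable def stalkTensorPullIso (x : X) (F : CochainComplex X.Modules ℤ)
    (P : CochainComplex Y.Modules ℤ) :
    (DerSch.stalkCxOver f x).obj ((DCoh.tensorCx.obj F).obj ((pullCx f).obj P)) ≅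
      (DerSch.stalkCxOver f x).obj F ⊗ (stalkCx (f.base x)).obj P :=
  ((Functor.mapHomologicalComplexCompIso (Iso.refl (DerSch.stalkOver f x)) (ComplexShape.up ℤ)).app _).symm ≪≫
    (resCx (f.stalkMap x).hom).mapIso
      ((stalkTensorCxIso x F ((pullCx f).obj P)).symm ≪≫
        ((curriedTensor (ModuleCat.{u} (X.presheaf.stalk x))).map₂CochainComplex.obj
          ((stalkCx x).obj F)).mapIso (stalkPullCxIso f x P)) ≪≫
    cancelCxIso (f.stalkMap x).hom _ _ ≪≫
    ((curriedTensor (ModuleCat.{u} (Y.presheaf.stalk (f.base x)))).map₂CochainComplex.mapIso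
      ((Functor.mapHomologicalComplexCompIso (Iso.refl (DerSch.stalkOver f x)) (ComplexShape.up ℤ)).app F)).app _

/-- The stalk complexes over the base, via stalks. -/
noncomputable def stalkCxOverIso (x : X) (G : CochainComplex X.Modules ℤ) :
    (DerSch.stalkCxOver f x).obj G ≅ (resCx (f.stalkMap x).hom).obj ((stalkCx x).obj G) :=
  ((Functor.mapHomologicalComplexCompIso (Iso.refl (DerSch.stalkOver f x)) (ComplexShape.up ℤ)).app G).symm

/-- Tor amplitudes add along a composite. -/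
theorem torAmplitudeAt_tensor_pull {F : CochainComplex X.Modules ℤ} {P : CochainComplex Y.Modules ℤ}
    (hP : DCoh.IsKFlat P) {a b c d : ℤ} {x : X} (hF : DerSch.HasTorAmplitudeAt f a b F x)
    (hG : DerSch.HasTorAmplitudeAt g c d P (f.base x)) :
    DerSch.HasTorAmplitudeAt (f ≫ g) (a + c) (b + d)
      ((DCoh.tensorCx.obj F).obj ((pullCx f).obj P)) x := by
  refine torAmp_of_iso (DerivedCategory.Q.mapIso ((stalkCxOverCompIso f g x _) ≪≫
    (resCx (g.stalkMap (f.base x)).hom).mapIso (stalkTensorPullIso f x F P))).symm ?_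
  exact torAmp_tensor _ ((kFlat_iff_stalk P).1 hP (f.base x)) hF
    (torAmp_of_iso (DerivedCategory.Q.mapIso (stalkCxOverIso g (f.base x) P)) hG)

/-- Tor amplitude of `Lf^*G ⊗^L F`. -/
theorem torAmplitudeAt_ltensor_lpull [DCoh.HasLpull f] {F : CochainComplex X.Modules ℤ}
    [DCoh.HasLTensorCx F] {G : CochainComplex Y.Modules ℤ} {a b c d : ℤ} {x : X}
    (hF : DerSch.HasTorAmplitudeAt f a b F x) (hG : DerSch.HasTorAmplitudeAt g c d G (f.base x))
    {K : CochainComplex X.Modules ℤ}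
    (e : DCoh.toD X K ≅ (DCoh.LTensorCx F).obj ((DCoh.Lpull f).obj (DCoh.toD Y G))) :
    DerSch.HasTorAmplitudeAt (f ≫ g) (a + c) (b + d) K x := by
  let P := (kRes Y).obj G
  have hP : DCoh.IsKFlat P := isKFlat_kRes G
  haveI := (flatCover Y).quasiIso_ψ G
  haveI := isIso_Q_map _ ((flatCover Y).quasiIso_ψ G)
  let eP : DCoh.toD Y P ≅ DCoh.toD Y G := asIso (DerivedCategory.Q.map ((flatCover Y).ψ.app G))
  refine torAmplitudeAt_congr _ ?_
    (torAmplitudeAt_tensor_pull f g hP hF (torAmplitudeAt_congr g eP.symm hG))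
  exact DerivedCategory.Q.mapIso ((symmIso (tensorBiFlipIso X) F).app ((pullCx f).obj P)).symm ≪≫
    (ltensorCxIso F (isKFlat_pullback f hP)).symm ≪≫
    (DCoh.LTensorCx F).mapIso ((lpullIso f hP).symm ≪≫ (DCoh.Lpull f).mapIso eP) ≪≫ e.symm

/-- `R ⊗ O[0] ≅ R`. -/
noncomputable def tensorCxUnitRightIso (R : CochainComplex X.Modules ℤ) :
    (DCoh.tensorCx.obj R).obj (degZero (Coh.structureModule X)) ≅ R :=
  (tensorCxSingleIso (Coh.structureModule X) R).symm ≪≫
    (NatIso.mapHomologicalComplex (tensorStructureIso X) (ComplexShape.up ℤ)).app R ≪≫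
    (Functor.mapHomologicalComplexIdIso _ _).app R

/-- Lower the amplitude by the tor dimension of the base change. -/
theorem torAmplitudeAt_comp {F : CochainComplex X.Modules ℤ} {a b c d : ℤ} {x : X}
    (hF : DerSch.HasTorAmplitudeAt f a b F x)
    (hg : DerSch.HasTorAmplitudeAt g c d (DerSch.unitCx Y) (f.base x)) :
    DerSch.HasTorAmplitudeAt (f ≫ g) (a + c) (b + d) F x := by
  haveI := hasLpull f
  haveI := hasLTensorCx F
  obtain ⟨u⟩ := nonempty_lpull_unit f
  obtain ⟨v⟩ := nonempty_ltensor_unit F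
  exact torAmplitudeAt_ltensor_lpull f g hF hg
    (v.symm ≪≫ (DCoh.LTensorCx F).mapIso u.symm)

/-- The derived pullback along a map of finite tor dimension. -/
theorem torAmplitudeAt_lpull [DCoh.HasLpull f] {G : CochainComplex Y.Modules ℤ} {a b c d : ℤ} {x : X}
    (hf : DerSch.HasTorAmplitudeAt f a b (DerSch.unitCx X) x)
    (hG : DerSch.HasTorAmplitudeAt g c d G (f.base x)) {K : CochainComplex X.Modules ℤ}
    (e : DCoh.toD X K ≅ (DCoh.Lpull f).obj (DCoh.toD Y G)) :
    DerSch.HasTorAmplitudeAt (f ≫ g) (a + c) (b + d) K x := by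
  haveI := hasLTensorCx (DerSch.unitCx X)
  refine torAmplitudeAt_ltensor_lpull f g hf hG (e ≪≫ ?_)
  let R := (kRes X).obj (DerivedCategory.Q.objPreimage ((DCoh.Lpull f).obj (DCoh.toD Y G)))
  let eR : DCoh.toD X R ≅ (DCoh.Lpull f).obj (DCoh.toD Y G) :=
    (resQIso X).app _ ≪≫ DerivedCategory.Q.objObjPreimageIso _
  exact eR.symm ≪≫ DerivedCategory.Q.mapIso (tensorCxUnitRightIso R).symm ≪≫
    (ltensorCxIso (DerSch.unitCx X) (isKFlat_kRes _)).symm ≪≫ (DCoh.LTensorCx _).mapIso eR

/-- `A ⊗^L B ≅ B ⊗^L A`. -/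
theorem nonempty_ltensor_swap (A B : CochainComplex X.Modules ℤ) [DCoh.HasLTensorCx A]
    [DCoh.HasLTensorCx B] :
    Nonempty ((DCoh.LTensorCx B).obj (DCoh.toD X A) ≅ (DCoh.LTensorCx A).obj (DCoh.toD X B)) := by
  let P := (kRes X).obj B
  have hP : DCoh.IsKFlat P := isKFlat_kRes B
  haveI := (flatCover X).quasiIso_ψ B
  haveI := isIso_Q_map _ ((flatCover X).quasiIso_ψ B)
  haveI := hasLTensorCx P
  let eP : DCoh.toD X P ≅ DCoh.toD X B := asIso (DerivedCategory.Q.map ((flatCover X).ψ.app B))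
  obtain ⟨c⟩ := nonempty_LTensorCx_congr_D eP
  exact ⟨c.symm.app _ ≪≫
    @asIso _ _ _ _ (((DCoh.tensorCxQ P).totalLeftDerivedCounit DerivedCategory.Q (qisX X)).app A)
      (isIso_LTensorCx_counit_of_isKFlat_right P hP A) ≪≫
    DerivedCategory.Q.mapIso ((symmIso (tensorBiFlipIso X) A).app P).symm ≪≫
    (ltensorCxIso A hP).symm ≪≫ (DCoh.LTensorCx A).mapIso eP⟩

/-- An open immersion at the target does not change the amplitude. -/
theorem torAmplitudeAt_of_comp_openImmersion [IsOpenImmersion g] {F : CochainComplex X.Modules ℤ}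
    {a b : ℤ} {x : X} (h : DerSch.HasTorAmplitudeAt (f ≫ g) a b F x) :
    DerSch.HasTorAmplitudeAt f a b F x := by
  refine torAmp_of_bijective (g.stalkMap (f.base x)).hom
    (ConcreteCategory.bijective_of_isIso (g.stalkMap (f.base x))) ?_
  exact torAmp_of_iso (DerivedCategory.Q.mapIso (stalkCxOverCompIso f g x F)) h

end Groth.Agent.PerfGen7.RelTor
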