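import Groth.Agent.PerfGen7.RelTor.Rpush
import Groth.Agent.KFlatLib.Scheme.TildeAmp
import Groth.Agent.PerfLocus7.RelFlat
import Groth.Agent.PerfMor.Spread
import Groth.Agent.S6946

/-!
# Absolute tor amplitude, finite intervals, perfect morphisms
-/

set_option linter.style.haveILetI false
set_option backward.isDefEq.respectTransparency false

universe u

open CategoryTheory CategoryTheory.Limits AlgebraicGeometry

attribute [local instance] HasDerivedCategory.standard

namespace Groth.Agent.PerfGen7.RelTor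

open Groth.Agent.KFlatLib Groth.Agent.H9Misc

variable {X Y S : Scheme.{u}}

/-- Tor amplitude is tor amplitude relative to the identity. -/
theorem flatAmplitude_iff_torAmplitude_id (F : CochainComplex X.Modules ℤ) (a b : ℤ) :
    DCoh.HasFlatAmplitudeIn a b (DCoh.toD X F) ↔ DerSch.HasTorAmplitude (𝟙 X) a b F := by
  constructor
  · rintro ⟨E, hz, hf, ⟨e⟩⟩ x
    refine torAmplitudeAt_congr _ e ?_
    exact ⟨(DerSch.stalkCxOver (𝟙 X) x).obj E, fun i hi => (DerSch.stalkOver (𝟙 X) x).map_isZero (hz i hi),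
      fun i => ((isFlatOver_id_iff _).2 (hf i)) x, ⟨Iso.refl _⟩⟩
  · intro h
    obtain ⟨E, hz, hf, e⟩ := PerfLocus7.rep_of_relTorAt (f := 𝟙 X) (K := DCoh.toD X F) (a := a) (b := b)
      fun x => torAmp_of_iso ((DerSch.stalkOver (𝟙 X) x).mapDerivedCategoryFactors.app F).symm (h x)
    exact ⟨E, hz, fun i => (isFlatOver_id_iff _).1 (hf i), e⟩

lemma torAmplitudeAt_of_eq {p p' : X ⟶ S} (h : p = p') {a b : ℤ} {F : CochainComplex X.Modules ℤ}
    {x : X} (hF : DerSch.HasTorAmplitudeAt p a b F x) : DerSch.HasTorAmplitudeAt p' a b F x := by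
  subst h; exact hF

/-- Local tor amplitudes on an open, read at a point. -/
lemma torAmplitudeAt_id_of_restrict {U : Scheme.{u}} (j : U ⟶ X) [IsOpenImmersion j] {a b : ℤ}
    {F : CochainComplex X.Modules ℤ} (h : DCoh.HasFlatAmplitudeIn a b (DCoh.toD U ((rCx j).obj F)))
    (z : U) : DerSch.HasTorAmplitudeAt (𝟙 X) a b F (j.base z) := by
  refine torAmplitudeAt_unrestrict (𝟙 X) j z ?_
  have h2 := torAmplitudeAt_comp_openImmersion (𝟙 U) j
    ((flatAmplitude_iff_torAmplitude_id ((rCx j).obj F) a b).1 h z)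
  exact torAmplitudeAt_of_eq ((Category.id_comp j).trans (Category.comp_id j).symm) h2

/-- Local tor amplitudes at points give them on opens. -/
lemma flatAmplitude_restrict_of_torAmplitudeAt_id (V : X.Opens) {a b : ℤ}
    {F : CochainComplex X.Modules ℤ} (h : ∀ x ∈ V, DerSch.HasTorAmplitudeAt (𝟙 X) a b F x) :
    DCoh.HasFlatAmplitudeIn a b (DCoh.toD (V : Scheme.{u}) ((rCx V.ι).obj F)) := by
  refine (flatAmplitude_iff_torAmplitude_id _ a b).2 fun z => ?_
  refine torAmplitudeAt_of_comp_openImmersion (𝟙 (V : Scheme.{u})) V.ι ?_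
  have h2 := torAmplitudeAt_restrict (𝟙 X) V.ι z (h _ z.2)
  exact torAmplitudeAt_of_eq ((Category.comp_id V.ι).trans (Category.id_comp V.ι).symm) h2

/-- Local intervals give one interval on a compact set. -/
lemma exists_interval_of_isCompact (p : X ⟶ S) {F : CochainComplex X.Modules ℤ}
    (hF : DerSch.LocFiniteTorAmplitude p F) {K : Set X} (hK : IsCompact K) :
    ∃ a b : ℤ, a ≤ b ∧ ∀ x ∈ K, DerSch.HasTorAmplitudeAt p a b F x := by
  choose V a b hx hV using hF
  obtain ⟨t, ht⟩ := hK.elim_finite_subcover (fun x : X => ((V x : X.Opens) : Set X)) (fun x => (V x).2)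
    (fun x _ => Set.mem_iUnion.2 ⟨x, hx x⟩)
  let N : ℤ := ((∑ x ∈ t, ((a x).natAbs + (b x).natAbs) : ℕ) : ℤ)
  refine ⟨-N, N, by omega, fun y hy => ?_⟩
  obtain ⟨x, hxt, hyx⟩ := Set.mem_iUnion₂.1 (ht hy)
  have hbx : (a x).natAbs + (b x).natAbs ≤ ∑ x ∈ t, ((a x).natAbs + (b x).natAbs) :=
    Finset.single_le_sum (f := fun x => (a x).natAbs + (b x).natAbs) (fun _ _ => Nat.zero_le _) hxt
  exact torAmplitudeAt_mono p (by omega) (by omega) (hV x y hyx)

/-- `Rf_*` preserves local finiteness of the relative tor amplitude. -/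
theorem locFiniteTorAmplitude_rpush (p : X ⟶ S) (q : Y ⟶ S) (f : X ⟶ Y) (w : f ≫ q = p)
    [QuasiCompact f] [QuasiSeparated f] [QuasiCompact q] [DCoh.HasRpush f]
    {F : CochainComplex X.Modules ℤ} (hq : DCoh.IsQCohD (DCoh.toD X F))
    (hF : DerSch.LocFiniteTorAmplitude p F) (G : CochainComplex Y.Modules ℤ)
    (eG : DCoh.toD Y G ≅ (DCoh.Rpush f).obj (DCoh.toD X F)) :
    DerSch.LocFiniteTorAmplitude q G := fun y => by
  obtain ⟨_, ⟨V, hV, rfl⟩, hy, -⟩ :=
    S.isBasis_affineOpens.exists_subset_of_mem_open (Set.mem_univ (q.base y)) isOpen_univ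
  obtain ⟨N, hN⟩ := exists_torAmplitudeAt_rpush_near p q f w hV
  haveI : QuasiCompact p := w ▸ inferInstance
  obtain ⟨a, b, -, hab⟩ := exists_interval_of_isCompact p hF (p.isCompact_preimage hV.isCompact)
  exact ⟨q ⁻¹ᵁ V, a, b + N, hy, fun y' hy' => hN hq (fun x hx => hab x hx) G ⟨eG⟩ y' hy'⟩

/-- Being locally of finite tor dimension, through stalks. -/
theorem locHasFiniteTorDim_iff (K : DCoh.D X) (F : CochainComplex X.Modules ℤ) (e : DCoh.toD X F ≅ K) :
    DCoh.LocHasFiniteTorDim K ↔ DerSch.LocFiniteTorAmplitude (𝟙 X) F := by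
  constructor
  · intro h x
    obtain ⟨V, a, b, hx, hV⟩ := h x
    exact ⟨V, a, b, hx, fun y hy => torAmplitudeAt_id_of_restrict V.ι (hV F ⟨e⟩) ⟨y, hy⟩⟩
  · intro h x
    obtain ⟨V, a, b, hx, hV⟩ := h x
    refine ⟨V, a, b, hx, fun F' ⟨e'⟩ => ?_⟩
    exact flatAmplitude_restrict_of_torAmplitudeAt_id V fun y hy =>
      torAmplitudeAt_congr _ (e ≪≫ e'.symm) (hV y hy)

/-- Locally finite tor dimension composes. -/
theorem locFiniteTorAmplitude_comp (f : X ⟶ Y) (g : Y ⟶ S) {F : CochainComplex X.Modules ℤ}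
    (hF : DerSch.LocFiniteTorAmplitude f F) (hg : DerSch.LocFiniteTorDim g) :
    DerSch.LocFiniteTorAmplitude (f ≫ g) F := fun x => by
  obtain ⟨V, a, b, hx, hV⟩ := hF x
  obtain ⟨W, c, d, hy, hW⟩ := hg (f.base x)
  exact ⟨V ⊓ f ⁻¹ᵁ W, a + c, b + d, ⟨hx, hy⟩, fun x' hx' =>
    torAmplitudeAt_comp f g (hV x' hx'.1) (hW (f.base x') hx'.2)⟩

/-- Finite tor dimension at a point, as tor amplitude. -/
lemma torAmplitudeAt_unit_of_torDimLE (f : X ⟶ Y) (x : X) (d : ℕ)
    (h : letI := (f.stalkMap x).hom.toAlgebra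
      DRing.HasTorDimLE (Y.presheaf.stalk (f.base x)) d (X.presheaf.stalk x)) :
    DerSch.HasTorAmplitudeAt f (-(d : ℤ)) 0 (DerSch.unitCx X) x := by
  letI := (f.stalkMap x).hom.toAlgebra
  let u : (DerSch.stalkFunctor X x).obj (Coh.structureModule X) ≅
      ModuleCat.of (X.presheaf.stalk x) (X.presheaf.stalk x) :=
    (stalkToPIso x).app _ ≪≫ (stalkUnitEquiv x).symm.toModuleIso
  let v : (DerSch.stalkOver f x).obj (Coh.structureModule X) ≅
      ModuleCat.of (Y.presheaf.stalk (f.base x)) (X.presheaf.stalk x) :=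
    (ModuleCat.restrictScalars (f.stalkMap x).hom).mapIso u ≪≫
      LinearEquiv.toModuleIso
        (m₁ := ((ModuleCat.restrictScalars (f.stalkMap x).hom).obj
          (ModuleCat.of (X.presheaf.stalk x) (X.presheaf.stalk x))).isModule)
        { AddEquiv.refl (X.presheaf.stalk x) with map_smul' := fun _ _ => rfl }
  refine torAmp_of_iso ?_ ((Groth.Agent.S6946.result _ _ d).1.1 h)
  exact ((SingleFunctors.evaluation _ _ 0).mapIso
      (DerivedCategory.singleFunctorsPostcompQIso _)).app _ ≪≫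
    DerivedCategory.Q.mapIso ((HomologicalComplex.single _ (ComplexShape.up ℤ) 0).mapIso v.symm ≪≫
      ((HomologicalComplex.singleMapHomologicalComplex (DerSch.stalkOver f x) _ 0).app _).symm)

/-- Perfect morphisms are locally of finite tor dimension. -/
theorem locFiniteTorDim_of_isPerfectMor (f : X ⟶ Y) (hf : MoreMor.IsPerfectMor f) :
    DerSch.LocFiniteTorDim f := fun x => by
  obtain ⟨V, hV, hxV, -⟩ := exists_isAffineOpen_mem_and_subset (U := (⊤ : Y.Opens)) (x := f x) trivial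
  obtain ⟨U, hU, hxU, hUV⟩ := exists_isAffineOpen_mem_and_subset (U := f ⁻¹ᵁ V) (x := x) hxV
  obtain ⟨d, hd⟩ := ((PerfMor.perfMor_iff f).1 hf ⟨V, hV⟩ ⟨U, hU⟩ hUV).2
  refine ⟨U, -(d : ℤ), 0, hxU, fun x' hx' => torAmplitudeAt_unit_of_torDimLE f x' d ?_⟩
  let A := Γ(Y, V)
  let A' := Y.presheaf.stalk (f.base x')
  let B := Γ(X, U)
  let C := X.presheaf.stalk x'
  letI : Algebra A B := (f.appLE V U hUV).hom.toAlgebra
  letI : Algebra B C := (X.presheaf.germ U x' hx').hom.toAlgebra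
  letI : Algebra A A' := (Y.presheaf.germ V (f x') (hUV hx')).hom.toAlgebra
  letI : Algebra A' C := (f.stalkMap x').hom.toAlgebra
  letI : Algebra A C := ((X.presheaf.germ U x' hx').hom.comp (f.appLE V U hUV).hom).toAlgebra
  haveI : IsScalarTower A B C := .of_algebraMap_eq fun _ => rfl
  haveI : IsScalarTower A A' C := .of_algebraMap_eq fun a =>
    congrArg (fun φ : A →+* C => φ a) (PerfMor.germ_appLE_stalkMap f hUV hx')
  haveI : IsLocalization.AtPrime A' (hV.primeIdealOf ⟨f x', hUV hx'⟩).asIdeal :=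
    hV.isLocalization_stalk ⟨f x', hUV hx'⟩
  haveI : IsLocalization.AtPrime C (hU.primeIdealOf ⟨x', hx'⟩).asIdeal :=
    hU.isLocalization_stalk ⟨x', hx'⟩
  let W := (hV.primeIdealOf ⟨f x', hUV hx'⟩).asIdeal.primeCompl
  haveI : Module.Flat A A' := IsLocalization.flat A' W
  haveI : Module.Flat B C := IsLocalization.flat C (hU.primeIdealOf ⟨x', hx'⟩).asIdeal.primeCompl
  have h0 : DRing.HasTorDimLE B 0 C :=
    (DRingTor.torDimLE_zero_iff (ModuleCat.of B C)).2 inferInstance
  have h1 : DRing.HasTorDimLE A (d + 0) C := PerfMor.torDimLE_restrict A B hd 0 C h0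
  rw [add_zero] at h1
  exact DiagSmooth.torDimLE_of_equiv (IsLocalization.moduleLid W A' C)
    (PerfMor.torDimLE_baseChange A A' d C h1)

end Groth.Agent.PerfGen7.RelTor
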