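import Groth.Agent.PerfGen7.RelTor.Abs
import Groth.Agent.PerfGen7.AffineX

/-!
# `Rf_*` along proper perfect morphisms preserves perfect objects
-/

set_option linter.style.haveILetI false
set_option backward.isDefEq.respectTransparency false

universe u

open CategoryTheory CategoryTheory.Limits AlgebraicGeometry

attribute [local instance] HasDerivedCategory.standard

namespace Groth.Agent.PerfGen7.RelTor

open Groth.Agent.KFlatLib Groth.Agent.H9Misc

variable {X Y : Scheme.{u}}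

/-- Perfect objects are locally of finite tor amplitude. -/
theorem locFiniteTorAmplitude_id_of_isPerfect {F : CochainComplex X.Modules ℤ}
    (hF : DCoh.IsPerfect (DCoh.toD X F)) : DerSch.LocFiniteTorAmplitude (𝟙 X) F := fun x => by
  obtain ⟨V, hx, hV⟩ := free_rep_range hF x
  obtain ⟨P, a, b, hab, hfree, ⟨e⟩⟩ := hV F ⟨Iso.refl _⟩
  refine ⟨V, a, b, hx, fun y hy => torAmplitudeAt_id_of_restrict V.ι ⟨P, hab, fun i => ?_, ⟨e.symm⟩⟩ ⟨y, hy⟩⟩
  obtain ⟨n, ⟨en⟩⟩ := hfree i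
  exact IsFlat.of_iso en.symm (isFlat_freeMod n)

/-- `Rf_*` of a perfect object along a proper perfect morphism. -/
theorem isPerfect_rpush_of_perfectMor [IsLocallyNoetherian Y] (f : X ⟶ Y) [IsProper f]
    (hf : MoreMor.IsPerfectMor f) [DCoh.HasRpush f] {E : DCoh.D X} (hE : DCoh.IsPerfect E) :
    DCoh.IsPerfect ((DCoh.Rpush f).obj E) := by
  let F := DerivedCategory.Q.objPreimage E
  let eF : DCoh.toD X F ≅ E := DerivedCategory.Q.objObjPreimageIso E
  have hFp : DCoh.IsPerfect (DCoh.toD X F) :=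
    (KFlatLib.isPerfect_iff _).2 (((KFlatLib.isPerfect_iff E).1 hE).of_iso eF.symm)
  have hrel : DerSch.LocFiniteTorAmplitude f F := by
    have := locFiniteTorAmplitude_comp (𝟙 X) f (locFiniteTorAmplitude_id_of_isPerfect hFp)
      (locFiniteTorDim_of_isPerfectMor f hf)
    rwa [Category.id_comp] at this
  refine isPerfect_of_cover fun y => ?_
  obtain ⟨V, hV, hy, -⟩ := exists_isAffineOpen_mem_and_subset (U := (⊤ : Y.Opens)) (x := y) trivial
  refine ⟨_, V.ι, inferInstance, ⟨⟨y, hy⟩, rfl⟩, ?_⟩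
  haveI : IsAffine (V : Scheme.{u}) := hV
  haveI : IsLocallyNoetherian (V : Scheme.{u}) := isLocallyNoetherian_of_isOpenImmersion V.ι
  haveI : IsNoetherian (V : Scheme.{u}) := {}
  haveI : IsProper (f ∣_ V) := MorphismProperty.of_isPullback (isPullback_morphismRestrict f V).flip inferInstance
  haveI : IsLocallyNoetherian ((f ⁻¹ᵁ V : X.Opens) : Scheme.{u}) :=
    LocallyOfFiniteType.isLocallyNoetherian (f ∣_ V)
  haveI := hasRpush_scheme (f ∣_ V)
  obtain ⟨c⟩ := nonempty_rpush_restrictD_iso f V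
  obtain ⟨a, b, -, hab⟩ := exists_interval_of_isCompact f hrel (f.isCompact_preimage hV.isCompact)
  let F' := (rCx (f ⁻¹ᵁ V).ι).obj F
  let eF' : (rho (f ⁻¹ᵁ V).ι).obj E ≅ DCoh.toD _ F' :=
    (rho (f ⁻¹ᵁ V).ι).mapIso eF.symm ≪≫ (rhoQ (f ⁻¹ᵁ V).ι).app F
  have hp : DCoh.IsPerfect (DCoh.toD _ F') := (KFlatLib.isPerfect_iff _).2
    (((KFlatLib.isPerfect_iff _).1 (isPerfect_rho' (f ⁻¹ᵁ V).ι hE)).of_iso eF')
  have htor : DerSch.HasTorAmplitude (f ∣_ V) a b F' := fun x => by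
    refine torAmplitudeAt_of_comp_openImmersion _ V.ι ?_
    rw [morphismRestrict_ι]
    exact torAmplitudeAt_restrict f _ x (hab _ x.2)
  have hsp := (KFlatLib.isPerfect_iff _).1 hp
  have hc : DCoh.IsCohD (DCoh.toD _ F') := fun i =>
    isCoh_of_locPC (isQCohD_of_isPerfect hp) (hsp.locPC i) i le_rfl
  have hsupp : ∀ i : ℤ, ClSub.IsProperOver (f ∣_ V) (CohB1.support (DCoh.HD (DCoh.toD _ F') i)) :=
    fun i => ⟨QCoh.isClosed_support_of_isFT (hc i).1 (hc i).2, inferInstance⟩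
  have h := isPerfect_rpush_of_relTorAmplitude (f ∣_ V) hc a b
    (fun i hi => isZero_hd_of_torAmplitude _ htor i hi) hsupp htor
  exact (KFlatLib.isPerfect_iff _).2 (((KFlatLib.isPerfect_iff _).1 h).of_iso
    ((DCoh.Rpush (f ∣_ V)).mapIso eF'.symm ≪≫ (c.app E).symm))

end Groth.Agent.PerfGen7.RelTor
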