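import Groth.Agent.H9Misc.DRingTorLTensor

/-!
# Tor amplitude and restriction of scalars
-/

set_option linter.style.haveILetI false
set_option backward.isDefEq.respectTransparency false

universe u

open CategoryTheory CategoryTheory.Limits MonoidalCategory

attribute [local instance] HasDerivedCategory.standard

namespace Groth.Agent.PerfGen7.RelTor

open Groth.Agent.KFlatLib Groth.Agent.H9Misc

variable {A C : Type u} [CommRing A] [CommRing C]

/-- Restriction of scalars on complexes. -/
noncomputable abbrev resCx (φ : C →+* A) : DRing.Cx A ⥤ DRing.Cx C :=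
  (ModuleCat.restrictScalars φ).mapHomologicalComplex (ComplexShape.up ℤ)

lemma torAmp_of_iso {a b : ℤ} {K L : Dual.D A} (e : K ≅ L)
    (h : DRing.HasTorAmplitudeIn A a b K) : DRing.HasTorAmplitudeIn A a b L := by
  obtain ⟨E, hz, hf, ⟨e'⟩⟩ := h
  exact ⟨E, hz, hf, ⟨e' ≪≫ e⟩⟩

lemma torAmp_mono {a b a' b' : ℤ} (ha : a' ≤ a) (hb : b ≤ b') {K : Dual.D A}
    (h : DRing.HasTorAmplitudeIn A a b K) : DRing.HasTorAmplitudeIn A a' b' K := by
  obtain ⟨E, hz, hf, he⟩ := h
  exact ⟨E, fun i hi => hz i (by omega), hf, he⟩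

/-- Restriction of scalars respects isomorphisms in the derived category. -/
noncomputable def resQMapIso (φ : C →+* A) {K L : DRing.Cx A}
    (e : DerivedCategory.Q.obj K ≅ DerivedCategory.Q.obj L) :
    DerivedCategory.Q.obj ((resCx φ).obj K) ≅ DerivedCategory.Q.obj ((resCx φ).obj L) :=
  ((ModuleCat.restrictScalars φ).mapDerivedCategoryFactors.app K).symm ≪≫
    (ModuleCat.restrictScalars φ).mapDerivedCategory.mapIso e ≪≫
    (ModuleCat.restrictScalars φ).mapDerivedCategoryFactors.app L

/-- Tensoring with a K-flat complex respects isomorphisms in the derived category. -/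
lemma nonempty_tensor_iso {P L L' : DRing.Cx A} (hP : DRingLTensor.IsKF P)
    (e : DerivedCategory.Q.obj L ≅ DerivedCategory.Q.obj L') :
    Nonempty (DerivedCategory.Q.obj (L ⊗ P) ≅ DerivedCategory.Q.obj (L' ⊗ P)) := by
  let T := curriedTensor (ModuleCat.{u} A)
  obtain ⟨Z, s, hs, g, hg⟩ := DerivedCategory.right_fac e.hom
  haveI : IsIso (DerivedCategory.Q.map s) := hs
  haveI : IsIso (DerivedCategory.Q.map g) := by
    have h : DerivedCategory.Q.map g = DerivedCategory.Q.map s ≫ e.hom := by
      rw [hg, IsIso.hom_inv_id_assoc]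
    rw [h]
    infer_instance
  haveI : QuasiIso s := (DerivedCategory.isIso_Q_map_iff_quasiIso _ _).1 inferInstance
  haveI : QuasiIso g := (DerivedCategory.isIso_Q_map_iff_quasiIso _ _).1 inferInstance
  haveI : QuasiIso ((T.map₂CochainComplex.flip.obj P).map s) := hP.quasiIso_map s
  haveI : QuasiIso ((T.map₂CochainComplex.flip.obj P).map g) := hP.quasiIso_map g
  haveI : IsIso (DerivedCategory.Q.map ((T.map₂CochainComplex.flip.obj P).map s)) :=
    (DerivedCategory.isIso_Q_map_iff_quasiIso _ _).2 inferInstance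
  haveI : IsIso (DerivedCategory.Q.map ((T.map₂CochainComplex.flip.obj P).map g)) :=
    (DerivedCategory.isIso_Q_map_iff_quasiIso _ _).2 inferInstance
  exact ⟨(asIso (DerivedCategory.Q.map ((T.map₂CochainComplex.flip.obj P).map s))).symm ≪≫
    asIso (DerivedCategory.Q.map ((T.map₂CochainComplex.flip.obj P).map g))⟩

/-- `L ⊗ P` over `C`, for `L` of tor amplitude `[a, b]` and `P` of tor amplitude `[c, d]` over `C`. -/
theorem torAmp_tensor (φ : C →+* A) {a b c d : ℤ} {L P : DRing.Cx A} (hP : DRingLTensor.IsKF P)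
    (hL : DRing.HasTorAmplitudeIn A a b (DerivedCategory.Q.obj L))
    (hPC : DRing.HasTorAmplitudeIn C c d (DerivedCategory.Q.obj ((resCx φ).obj P))) :
    DRing.HasTorAmplitudeIn C (a + c) (b + d) (DerivedCategory.Q.obj ((resCx φ).obj (L ⊗ P))) := by
  obtain ⟨E, hz, hf, ⟨e⟩⟩ := hL
  obtain ⟨t⟩ := nonempty_tensor_iso hP e
  exact torAmp_of_iso (resQMapIso φ t) (DRingTorLTensor.hasTorAmplitudeIn_tensor φ E P hz hf hPC)

/-- A bijective change of rings does not change the tor amplitude. -/
theorem torAmp_of_bijective (φ : C →+* A) (hφ : Function.Bijective φ) {a b : ℤ} {L : DRing.Cx A}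
    (h : DRing.HasTorAmplitudeIn C a b (DerivedCategory.Q.obj ((resCx φ).obj L))) :
    DRing.HasTorAmplitudeIn A a b (DerivedCategory.Q.obj L) := by
  obtain ⟨E, hz, hf, ⟨e⟩⟩ := h
  let ψ : A →+* C := (RingEquiv.ofBijective φ hφ).symm.toRingHom
  have hc : φ.comp ψ = RingHom.id A :=
    RingHom.ext fun x => (RingEquiv.ofBijective φ hφ).apply_symm_apply x
  refine ⟨(resCx ψ).obj E, fun i hi => (ModuleCat.restrictScalars ψ).map_isZero (hz i hi), fun i => ?_, ⟨?_⟩⟩
  · letI := ψ.toAlgebra
    letI : Module A (E.X i : Type u) := Module.compHom _ ψ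
    haveI : IsScalarTower A C (E.X i : Type u) := IsScalarTower.of_algebraMap_smul fun _ _ => rfl
    haveI : Module.Flat A C := Module.Flat.of_linearEquiv
      (LinearEquiv.ofBijective (Algebra.linearMap A C) (RingEquiv.ofBijective φ hφ).symm.bijective).symm
    haveI : Module.Flat C (E.X i : Type u) := hf i
    exact Module.Flat.trans A C (E.X i : Type u)
  · exact resQMapIso ψ e ≪≫ DerivedCategory.Q.mapIso
      ((Functor.mapHomologicalComplexCompIso (Iso.refl (ModuleCat.restrictScalars φ ⋙
          ModuleCat.restrictScalars ψ)) (ComplexShape.up ℤ)).app L ≪≫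
        (NatIso.mapHomologicalComplex ((ModuleCat.restrictScalarsComp' ψ φ _ rfl).symm ≪≫
          ModuleCat.restrictScalarsId' (φ.comp ψ) hc) (ComplexShape.up ℤ)).app L ≪≫
        (Functor.mapHomologicalComplexIdIso _ _).app L)

end Groth.Agent.PerfGen7.RelTor
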