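import Groth.Agent.PerfGen7.RelTor.Bound

/-!
# Direct images of objects of finite relative tor amplitude
-/

set_option linter.style.haveILetI false
set_option backward.isDefEq.respectTransparency false

universe u

open CategoryTheory CategoryTheory.Limits AlgebraicGeometry MonoidalCategory

attribute [local instance] HasDerivedCategory.standard

namespace Groth.Agent.PerfGen7.RelTor

open Groth.Agent.KFlatLib Groth.Agent.H9Misc

variable {X Y S : Scheme.{u}}

/-- `Rf_*` over a quasi-separated base, with some loss in the upper bound. -/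
theorem exists_torAmplitudeAt_rpush (p : X ⟶ S) (q : Y ⟶ S) (f : X ⟶ Y) (w : f ≫ q = p)
    [QuasiCompact f] [QuasiSeparated f] [CompactSpace Y] [QuasiSeparatedSpace S] [DCoh.HasRpush f] :
    ∃ N : ℕ, ∀ {F : CochainComplex X.Modules ℤ}, DCoh.IsQCohD (DCoh.toD X F) → ∀ {a b : ℤ},
      DerSch.HasTorAmplitude p a b F → ∀ G : CochainComplex Y.Modules ℤ,
        Nonempty (DCoh.toD Y G ≅ (DCoh.Rpush f).obj (DCoh.toD X F)) → ∀ y : Y,
          DerSch.HasTorAmplitudeAt q a (b + N) G y := by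
  haveI : HasInjectiveResolutions X.Modules := hasInjectiveResolutions_modules
  obtain ⟨N, hN⟩ := exists_Rpush_bound f
  refine ⟨N, fun {F} hq {a b} hF G ⟨eG⟩ y => ?_⟩
  haveI := hasLpull f
  haveI := hasLpull p
  haveI := hasLpull q
  let L := (DerSch.stalkCxOver q y).obj G
  haveI := (ringCover (S.presheaf.stalk (q.base y))).quasiIso_ψ L
  haveI : IsIso (DerivedCategory.Q.map ((ringCover (S.presheaf.stalk (q.base y))).ψ.app L)) :=
    (DerivedCategory.isIso_Q_map_iff_quasiIso _ _).2 inferInstance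
  have hX' : DRingLTensor.IsKF ((ringCover (S.presheaf.stalk (q.base y))).P.obj L) := kFlat_ringRes L
  refine DRingTor.hasTorAmplitudeIn_of_van hX' (fun M i hi => ?_)
    (asIso (DerivedCategory.Q.map ((ringCover (S.presheaf.stalk (q.base y))).ψ.app L)))
  let F₀ := qcSky (q.base y) M
  have hF₀ : Coh.IsQCoh F₀ := isQCoh_qcSky (q.base y) M
  let P := (kRes S).obj (degZero F₀)
  let ψ : P ⟶ degZero F₀ := (flatCover S).ψ.app (degZero F₀)
  haveI : QuasiIso ψ := (flatCover S).quasiIso_ψ (degZero F₀)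
  haveI := isIso_Q_map ψ inferInstance
  have hP : DCoh.IsKFlat P := isKFlat_kRes _
  let MY := (pullCx q).obj P
  have hMY : DCoh.IsKFlat MY := isKFlat_pullback q hP
  haveI := hasLTensorCx MY
  obtain ⟨MX, _, ⟨eMX⟩, hTz⟩ := exists_tensor_lpull_of_torAmplitude p hF F₀
  let eY : DCoh.toD Y MY ≅ (DCoh.Lpull q).obj (DCoh.toD S (degZero F₀)) :=
    (lpullIso q hP).symm ≪≫ (DCoh.Lpull q).mapIso (asIso (DerivedCategory.Q.map ψ))
  have hMYq : DCoh.IsQCohD (DCoh.toD Y MY) :=
    isQCohD_of_iso eY.symm (isQCohD_lpull q (isQCohD_degZero hF₀))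
  let eXY : DCoh.toD X MX ≅ (DCoh.Lpull f).obj (DCoh.toD Y MY) :=
    eMX ≪≫ (DCoh.Lpull p).mapIso (asIso (DerivedCategory.Q.map ψ)).symm ≪≫ lpullIso p hP ≪≫
      DerivedCategory.Q.mapIso ((NatIso.mapHomologicalComplex
        ((Scheme.Modules.pullbackCongr w).symm ≪≫ (Scheme.Modules.pullbackComp f q).symm)
          (ComplexShape.up ℤ)).app P ≪≫
        ((Functor.mapHomologicalComplexCompIso (Iso.refl
          (Scheme.Modules.pullback q ⋙ Scheme.Modules.pullback f)) (ComplexShape.up ℤ)).app P).symm) ≪≫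
      (lpullIso f hMY).symm
  have hMXq : DCoh.IsQCohD (DCoh.toD X MX) := isQCohD_of_iso eXY.symm (isQCohD_lpull f hMYq)
  obtain ⟨eP⟩ := nonempty_projection_DQCoh f (DCoh.toD X F) hq MY hMYq MX ⟨eXY⟩
  let T := (DCoh.LTensorCx MX).obj (DCoh.toD X F)
  have hz : IsZero (DCoh.HD ((DCoh.Rpush f).obj T) i) := by
    rcases hi with hi | hi
    · haveI : T.IsGE a := by
        rw [DerivedCategory.isGE_iff]
        exact fun n hn => hTz n (Or.inl hn)
      exact isZero_hd_rpush_of_lt f T a i hi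
    · haveI : T.IsLE b := by
        rw [DerivedCategory.isLE_iff]
        exact fun n hn => hTz n (Or.inr hn)
      refine isZero_of_isZero_restrict _ fun y => ⟨⊤, trivial, ?_⟩
      exact isZero_restrict_hd_rpush f (isQCohD_ltensor MX hMXq hq) b ⊤ N
        (fun G hG p hp => Functor.map_isZero _ (hN G hG p hp)) i (by omega)
  let D := (DCoh.tensorCx.obj G).obj MY
  have hD : D.ExactAt i := by
    rw [HomologicalComplex.exactAt_iff_isZero_homology]
    exact hz.of_iso (((DerivedCategory.homologyFunctorFactors Y.Modules i).app D).symm ≪≫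
      (DerivedCategory.homologyFunctor Y.Modules i).mapIso
        ((@asIso _ _ _ _ (((DCoh.tensorCxQ MY).totalLeftDerivedCounit DerivedCategory.Q (qisX Y)).app G)
          (isIso_LTensorCx_counit_of_isKFlat_right MY hMY G)).symm ≪≫
          (DCoh.LTensorCx MY).mapIso eG ≪≫ eP))
  have h1 : ((stalkCx y).obj D).ExactAt i := (exact_iff_stalk (D.sc i)).1 hD y
  have h1' : ((resCx (q.stalkMap y).hom).obj ((stalkCx y).obj D)).ExactAt i :=
    ShortComplex.Exact.map h1 (ModuleCat.restrictScalars (q.stalkMap y).hom)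
  have h2 : ((DerSch.stalkCxOver q y).obj D).ExactAt i :=
    h1'.of_iso (stalkCxOverIso q y D).symm
  have h3 := h2.of_iso (stalkTensorPullIso q y G P)
  let ψ' : (stalkCx (q.base y)).obj P ⟶ (HomologicalComplex.single _ (ComplexShape.up ℤ) 0).obj M :=
    (stalkCx (q.base y)).map ψ ≫
      (HomologicalComplex.singleMapHomologicalComplex (DerSch.stalkFunctor S (q.base y)) _ 0).hom.app F₀ ≫
      (HomologicalComplex.single _ (ComplexShape.up ℤ) 0).map (qcSkyStalkIso (q.base y) M).hom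
  haveI : QuasiIso ((stalkCx (q.base y)).map ψ) := inferInstance
  haveI : QuasiIso ψ' := quasiIso_comp _ _
  exact (DRingTorLTensor.exactAt_balance ((ringCover (S.presheaf.stalk (q.base y))).ψ.app L) hX'
    ((kFlat_iff_stalk P).1 hP (q.base y)) ψ' i).1 h3

/-- `Rf_*` over an affine base, after localizing. -/
theorem exists_torAmplitudeAt_rpush_near (p : X ⟶ S) (q : Y ⟶ S) (f : X ⟶ Y) (w : f ≫ q = p)
    [QuasiCompact f] [QuasiSeparated f] [QuasiCompact q] [DCoh.HasRpush f]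
    {V : S.Opens} (hV : IsAffineOpen V) :
    ∃ N : ℕ, ∀ {F : CochainComplex X.Modules ℤ}, DCoh.IsQCohD (DCoh.toD X F) → ∀ {a b : ℤ},
      (∀ x : X, p.base x ∈ V → DerSch.HasTorAmplitudeAt p a b F x) →
        ∀ G : CochainComplex Y.Modules ℤ,
        Nonempty (DCoh.toD Y G ≅ (DCoh.Rpush f).obj (DCoh.toD X F)) → ∀ y : Y, q.base y ∈ V →
          DerSch.HasTorAmplitudeAt q a (b + N) G y := by
  let W := q ⁻¹ᵁ V
  haveI : IsAffine (V : Scheme.{u}) := hV
  haveI : CompactSpace (W : Scheme.{u}) :=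
    isCompact_iff_compactSpace.1 (q.isCompact_preimage hV.isCompact)
  haveI := hasRpush_scheme (f ∣_ W)
  obtain ⟨N, hN⟩ := exists_torAmplitudeAt_rpush ((f ∣_ W) ≫ (q ∣_ V)) (q ∣_ V) (f ∣_ W) rfl
  obtain ⟨c⟩ := nonempty_rpush_restrictD_iso f W
  refine ⟨N, fun {F} hq {a b} hF G ⟨eG⟩ y hy => ?_⟩
  have hcomp : ((f ∣_ W) ≫ (q ∣_ V)) ≫ V.ι = (f ⁻¹ᵁ W).ι ≫ p := by
    rw [Category.assoc, morphismRestrict_ι, ← Category.assoc, morphismRestrict_ι, Category.assoc, w]
  have hF' : DerSch.HasTorAmplitude ((f ∣_ W) ≫ (q ∣_ V)) a b ((rCx (f ⁻¹ᵁ W).ι).obj F) := fun x => by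
    refine torAmplitudeAt_of_comp_openImmersion _ V.ι ?_
    rw [hcomp]
    refine torAmplitudeAt_restrict p (f ⁻¹ᵁ W).ι x (hF _ ?_)
    rw [← w]
    exact x.2
  have hG' := hN (F := (rCx (f ⁻¹ᵁ W).ι).obj F)
    (isQCohD_of_iso ((rhoQ (f ⁻¹ᵁ W).ι).app F) (isQCohD_rho _ hq)) hF' ((rCx W.ι).obj G)
    ⟨((rhoQ W.ι).app G).symm ≪≫ (rho W.ι).mapIso eG ≪≫ c.app _ ≪≫
      (DCoh.Rpush (f ∣_ W)).mapIso ((rhoQ (f ⁻¹ᵁ W).ι).app F)⟩ ⟨y, hy⟩
  refine torAmplitudeAt_unrestrict q W.ι ⟨y, hy⟩ ?_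
  rw [← morphismRestrict_ι]
  exact torAmplitudeAt_comp_openImmersion _ V.ι hG'

/-- `Rf_*` keeps the relative tor amplitude up to the cohomological dimension. -/
theorem torAmplitudeAt_rpush_of_bound (p : X ⟶ S) (q : Y ⟶ S) (f : X ⟶ Y) (w : f ≫ q = p)
    [QuasiCompact f] [QuasiSeparated f] [QuasiCompact q] [DCoh.HasRpush f] (N : ℕ)
    (hN : ∀ M : X.Modules, Coh.IsQCoh M → ∀ i : ℤ, (N : ℤ) < i →
      IsZero (DCoh.HD ((DCoh.Rpush f).obj (DCoh.inD X M)) i))
    {F : CochainComplex X.Modules ℤ} (hq : DCoh.IsQCohD (DCoh.toD X F)) {a b : ℤ}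
    (hF : DerSch.HasTorAmplitude p a b F) (G : CochainComplex Y.Modules ℤ)
    (eG : DCoh.toD Y G ≅ (DCoh.Rpush f).obj (DCoh.toD X F)) (y : Y) :
    DerSch.HasTorAmplitudeAt q a (b + N) G y := by
  obtain ⟨_, ⟨V, hV, rfl⟩, hy, -⟩ :=
    S.isBasis_affineOpens.exists_subset_of_mem_open (Set.mem_univ (q.base y)) isOpen_univ
  obtain ⟨N', hN'⟩ := exists_torAmplitudeAt_rpush_near p q f w hV
  have h := hN' hq (fun x _ => hF x) G ⟨eG⟩ y hy
  refine torAmp_of_le h fun i hi => ?_
  have hzero : IsZero (DCoh.HD ((DCoh.Rpush f).obj (DCoh.toD X F)) i) := by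
    have hz := fun i hi => isZero_hd_of_torAmplitude p hF i hi
    haveI : (DCoh.toD X F).IsGE (min a b) := by
      rw [DerivedCategory.isGE_iff]
      exact fun j hj => hz j (Or.inl (by omega))
    haveI : (DCoh.toD X F).IsLE (min a b + (b - min a b).toNat) := by
      rw [DerivedCategory.isLE_iff]
      exact fun j hj => hz j (Or.inr (by omega))
    exact isZero_hd_rpush_of_bound f N hN (b - min a b).toNat (min a b) _ inferInstance
      inferInstance hq i (by omega)
  have hG : G.ExactAt i := by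
    rw [HomologicalComplex.exactAt_iff_isZero_homology]
    exact hzero.of_iso (((DerivedCategory.homologyFunctorFactors Y.Modules i).app G).symm ≪≫
      (DerivedCategory.homologyFunctor Y.Modules i).mapIso eG)
  have h1 : ((resCx (q.stalkMap y).hom).obj ((stalkCx y).obj G)).ExactAt i :=
    ((exact_iff_stalk (G.sc i)).1 hG y).map (ModuleCat.restrictScalars (q.stalkMap y).hom)
  exact h1.of_iso (stalkCxOverIso q y G).symm

end Groth.Agent.PerfGen7.RelTor
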